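import Mathlib.RingTheory.HopfAlgebra.Basic
import Mathlib.RingTheory.HopfAlgebra.Convolution
import Mathlib.RingTheory.Finiteness.Descent
import Mathlib.RingTheory.Flat.FaithfullyFlat.Basic
import Mathlib.RingTheory.TensorProduct.Basic

/-!
# Hopf-Galois descent (S16912, block G6a, node T2)

`k` a commutative ring, `O` a commutative Hopf algebra over `k`, `D` a commutative `k`-algebra with a coaction
`r : D →ₐ[k] D ⊗[k] O`, `B → D` with `r b = b ⊗ 1`, `can : D ⊗[B] D → D ⊗[k] O`, `a ⊗ b ↦ (a ⊗ 1) * r b` bijective;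
`M` a `D`-module with a coaction `ρ : M →ₗ[k] M ⊗[k] O`, `ρ (d • m) = r d • ρ m`.

* `alpha_bijective` (G1): `D ⊗[B] M → M ⊗[k] O`, `d ⊗ m ↦ d • ρ m` is bijective;
* `mu_bijective` (G2): `D` flat over `B`: `D ⊗[B] M^co → M` is bijective;
* `finite_co` (G3): `D` faithfully flat over `B`, `M` finite over `D`: `M^co` is finite over `B`.
-/

set_option autoImplicit false
set_option linter.unusedSectionVars false

open TensorProduct

namespace Groth.Agent.ResProp.EF.K761

section Comod

variable {k : Type*} [CommRing k] {O : Type*} [CommRing O] [HopfAlgebra k O]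
variable {M : Type*} [AddCommGroup M] [Module k M]

/-- A (right) comodule structure: coassociative and counital. -/
structure IsComod (ρ : M →ₗ[k] M ⊗[k] O) : Prop where
  coassoc : ∀ m, TensorProduct.assoc k M O O (ρ.rTensor O (ρ m)) = (Coalgebra.comul (R := k) (A := O)).lTensor M (ρ m)
  counit : ∀ m, (Coalgebra.counit (R := k) (A := O)).lTensor M (ρ m) = m ⊗ₜ[k] (1 : k)

theorem IsComod.sum {ρ : M →ₗ[k] M ⊗[k] O} (h : IsComod ρ) (θ : O ⊗[k] O →ₗ[k] O) (c : O)
    (hθ : ∀ x, θ (Coalgebra.comul (R := k) x) = Coalgebra.counit (R := k) x • c) (m : M) :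
    θ.lTensor M (TensorProduct.assoc k M O O (ρ.rTensor O (ρ m))) = m ⊗ₜ[k] c := by
  rw [h.coassoc, ← LinearMap.comp_apply, ← LinearMap.lTensor_comp]
  have h1 : θ ∘ₗ Coalgebra.comul = LinearMap.toSpanSingleton k O c ∘ₗ Coalgebra.counit :=
    LinearMap.ext fun x => hθ x
  rw [h1, LinearMap.lTensor_comp, LinearMap.comp_apply, h.counit, LinearMap.lTensor_tmul,
    LinearMap.toSpanSingleton_apply, one_smul]

/-- `a ⊗ b ↦ a * (S b * h)` -/
noncomputable def th1 (k : Type*) [CommRing k] {O : Type*} [CommRing O] [HopfAlgebra k O] (h : O) : O ⊗[k] O →ₗ[k] O :=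
  (LinearMap.mulLeft k h) ∘ₗ (LinearMap.mul' k O) ∘ₗ ((HopfAlgebra.antipode k).lTensor O)

@[simp] theorem th1_tmul (h a b : O) : th1 k h (a ⊗ₜ[k] b) = h * (a * HopfAlgebra.antipode k b) := rfl

theorem th1_comul (h x : O) : th1 k h (Coalgebra.comul (R := k) x) = Coalgebra.counit (R := k) x • h := by
  rw [th1, LinearMap.comp_apply, LinearMap.comp_apply, HopfAlgebra.mul_antipode_lTensor_comul_apply,
    LinearMap.mulLeft_apply, Algebra.smul_def, mul_comm]

/-- `a ⊗ b ↦ S a * b` -/
noncomputable def th2 (k : Type*) [CommRing k] (O : Type*) [CommRing O] [HopfAlgebra k O] : O ⊗[k] O →ₗ[k] O :=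
  (LinearMap.mul' k O) ∘ₗ ((HopfAlgebra.antipode k).rTensor O)

@[simp] theorem th2_tmul (a b : O) : th2 k O (a ⊗ₜ[k] b) = HopfAlgebra.antipode k a * b := rfl

theorem th2_comul (x : O) : th2 k O (Coalgebra.comul (R := k) x) = Coalgebra.counit (R := k) x • (1 : O) := by
  rw [th2, LinearMap.comp_apply, HopfAlgebra.mul_antipode_rTensor_comul_apply, Algebra.smul_def, mul_one]

theorem tmul_one_injective {m m' : M} (h : m ⊗ₜ[k] (1 : O) = m' ⊗ₜ[k] (1 : O)) : m = m' := by
  have h1 := congrArg (fun y => TensorProduct.rid k M ((Coalgebra.counit (R := k) (A := O)).lTensor M y)) h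
  simpa using h1

end Comod

section Act

variable (k : Type*) [CommRing k] (O : Type*) [CommRing O] [Algebra k O]
variable (D : Type*) [CommRing D] [Algebra k D]
variable (M : Type*) [AddCommGroup M] [Module k M] [Module D M] [IsScalarTower k D M]

/-- The action of `D ⊗ O` on `M ⊗ O`. -/
noncomputable def act : D ⊗[k] O →ₗ[k] M ⊗[k] O →ₗ[k] M ⊗[k] O :=
  TensorProduct.map₂ (Algebra.lsmul k k M).toLinearMap (LinearMap.mul k O)

variable {k O D M}

@[simp] theorem act_tmul (d : D) (h : O) (m : M) (h' : O) :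
    act k O D M (d ⊗ₜ h) (m ⊗ₜ h') = (d • m) ⊗ₜ (h * h') := rfl

theorem act_mul (x y : D ⊗[k] O) (z : M ⊗[k] O) : act k O D M (x * y) z = act k O D M x (act k O D M y z) := by
  induction x with
  | zero => simp
  | add x x' hx hx' => rw [add_mul, map_add, LinearMap.add_apply, hx, hx', map_add, LinearMap.add_apply]
  | tmul d h =>
    induction y with
    | zero => simp
    | add y y' hy hy' => rw [mul_add, map_add, LinearMap.add_apply, hy, hy', map_add, LinearMap.add_apply, map_add]
    | tmul d' h' =>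
      induction z with
      | zero => simp
      | add z z' hz hz' => rw [map_add, map_add, map_add, hz, hz']
      | tmul m h'' => simp [mul_smul, mul_assoc]

theorem act_tmul_one (d : D) (z : M ⊗[k] O) : act k O D M (d ⊗ₜ 1) z = d • z := by
  induction z with
  | zero => simp
  | add z z' hz hz' => rw [map_add, hz, hz', smul_add]
  | tmul m h => rw [act_tmul, one_mul, TensorProduct.smul_tmul']

theorem act_one (z : M ⊗[k] O) : act k O D M 1 z = z := by
  rw [Algebra.TensorProduct.one_def, act_tmul_one, one_smul]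

end Act

section Galois

variable {k : Type*} [CommRing k] {O : Type*} [CommRing O] [HopfAlgebra k O]
variable {B : Type*} [CommRing B] [Algebra k B] {D : Type*} [CommRing D] [Algebra k D] [Algebra B D]
  [IsScalarTower k B D]

/-- The Galois map `a ⊗ b ↦ (a ⊗ 1) * r b`. -/
noncomputable def can (r : D →ₐ[k] D ⊗[k] O) (hB : ∀ b : B, r (algebraMap B D b) = algebraMap B D b ⊗ₜ 1) :
    D ⊗[B] D →ₐ[D] D ⊗[k] O :=
  Algebra.TensorProduct.lift (Algebra.ofId D (D ⊗[k] O))
    ({ r.toRingHom with commutes' := fun b => hB b } : D →ₐ[B] D ⊗[k] O) (fun _ _ => Commute.all _ _)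

variable {r : D →ₐ[k] D ⊗[k] O} {hB : ∀ b : B, r (algebraMap B D b) = algebraMap B D b ⊗ₜ 1}

@[simp] theorem can_tmul (a b : D) : can r hB (a ⊗ₜ b) = (a ⊗ₜ 1) * r b := rfl

/-- `h ↦ can⁻¹ (1 ⊗ h)` -/
noncomputable def tau (hcan : Function.Bijective (can r hB)) : O →ₐ[k] D ⊗[B] D :=
  (((AlgEquiv.ofBijective (can r hB) hcan).symm : D ⊗[k] O →ₐ[D] D ⊗[B] D).restrictScalars k).comp
    Algebra.TensorProduct.includeRight

theorem can_tau (hcan : Function.Bijective (can r hB)) (h : O) : can r hB (tau hcan h) = 1 ⊗ₜ h :=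
  (AlgEquiv.ofBijective (can r hB) hcan).apply_symm_apply (1 ⊗ₜ h)

variable {M : Type*} [AddCommGroup M] [Module k M] [Module D M] [IsScalarTower k D M]
  [Module B M] [IsScalarTower B D M] [IsScalarTower k B M]

/-- `(a ⊗ b, m) ↦ a ⊗ b m` -/
noncomputable def P (m : M) : D ⊗[B] D →ₗ[D] D ⊗[B] M :=
  AlgebraTensorModule.lTensor D D ((LinearMap.toSpanSingleton D M m).restrictScalars B)

@[simp] theorem P_tmul (m : M) (a b : D) : P m (a ⊗ₜ[B] b) = a ⊗ₜ[B] (b • m) := rfl

theorem P_add (m m' : M) (t : D ⊗[B] D) : P (m + m') t = P m t + P m' t := by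
  induction t with
  | zero => simp
  | add t t' h h' => rw [map_add, map_add, map_add, h, h']; abel
  | tmul a b => simp [smul_add, tmul_add]

theorem P_smul' (d : D) (m : M) (t : D ⊗[B] D) : P (d • m) t = P m ((1 ⊗ₜ d) * t) := by
  induction t with
  | zero => simp
  | add t t' h h' => rw [mul_add, map_add, map_add, h, h']
  | tmul a b => rw [Algebra.TensorProduct.tmul_mul_tmul, one_mul, P_tmul, P_tmul, smul_smul, mul_comm]

theorem P_smul_k (c : k) (m : M) (t : D ⊗[B] D) : P (c • m) t = c • P m t := by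
  rw [← algebraMap_smul D c m, P_smul']
  induction t with
  | zero => simp
  | add t t' h h' => rw [mul_add, map_add, map_add, h, h', smul_add]
  | tmul a b =>
    rw [Algebra.TensorProduct.tmul_mul_tmul, one_mul, P_tmul, P_tmul, IsScalarTower.algebraMap_apply k B D,
      ← Algebra.smul_def, smul_assoc, TensorProduct.tmul_smul, TensorProduct.smul_tmul', algebraMap_smul,
      ← TensorProduct.smul_tmul']

/-- `P` as a bilinear map. -/
noncomputable def Pl : M →ₗ[k] D ⊗[B] D →ₗ[k] D ⊗[B] M where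
  toFun m := (P m).restrictScalars k
  map_add' m m' := LinearMap.ext fun t => P_add m m' t
  map_smul' c m := LinearMap.ext fun t => P_smul_k c m t

@[simp] theorem Pl_apply (m : M) (t : D ⊗[B] D) : Pl (k := k) m t = P m t := rfl

/-- The coaction as a `B`-linear map. -/
noncomputable def rhoB (hB : ∀ b : B, r (algebraMap B D b) = algebraMap B D b ⊗ₜ 1) (ρ : M →ₗ[k] M ⊗[k] O)
    (hρ : ∀ (d : D) m, ρ (d • m) = act k O D M (r d) (ρ m)) : M →ₗ[B] M ⊗[k] O where
  toFun := ρ
  map_add' := map_add ρ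
  map_smul' b m := by
    rw [RingHom.id_apply, ← algebraMap_smul D b m, hρ, hB, act_tmul_one, algebraMap_smul]

/-- `α : D ⊗[B] M → M ⊗ O`, `d ⊗ m ↦ d • ρ m` -/
noncomputable def alpha (hB : ∀ b : B, r (algebraMap B D b) = algebraMap B D b ⊗ₜ 1) (ρ : M →ₗ[k] M ⊗[k] O)
    (hρ : ∀ (d : D) m, ρ (d • m) = act k O D M (r d) (ρ m)) : D ⊗[B] M →ₗ[D] M ⊗[k] O :=
  (rhoB hB ρ hρ).liftBaseChange D

variable {ρ : M →ₗ[k] M ⊗[k] O} {hρ : ∀ (d : D) m, ρ (d • m) = act k O D M (r d) (ρ m)}

@[simp] theorem alpha_tmul (d : D) (m : M) : alpha hB ρ hρ (d ⊗ₜ m) = d • ρ m := rfl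

theorem alpha_P (m : M) (t : D ⊗[B] D) : alpha hB ρ hρ (P m t) = act k O D M (can r hB t) (ρ m) := by
  induction t with
  | zero => simp
  | add t t' h h' => rw [map_add, map_add, h, h', map_add, map_add, LinearMap.add_apply]
  | tmul a b => rw [P_tmul, alpha_tmul, can_tmul, act_mul, act_tmul_one, hρ]

/-- `(a ⊗ h) ↦ τ (S a * h)` -/
noncomputable def kap (hcan : Function.Bijective (can r hB)) : O ⊗[k] O →ₗ[k] D ⊗[B] D :=
  (tau hcan).toLinearMap ∘ₗ th2 k O

@[simp] theorem kap_tmul (hcan : Function.Bijective (can r hB)) (a b : O) :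
    kap hcan (a ⊗ₜ b) = tau hcan (HopfAlgebra.antipode k a * b) := rfl

/-- `(m ⊗ a) ⊗ h ↦ τ (S a * h) · m` -/
noncomputable def Phi (M : Type*) [AddCommGroup M] [Module k M] [Module D M] [IsScalarTower k D M]
    [Module B M] [IsScalarTower B D M] [IsScalarTower k B M] (hcan : Function.Bijective (can r hB)) :
    (M ⊗[k] O) ⊗[k] O →ₗ[k] D ⊗[B] M :=
  TensorProduct.lift (Pl (k := k) (B := B) (D := D) (M := M)) ∘ₗ (kap hcan).lTensor M ∘ₗ
    (TensorProduct.assoc k M O O).toLinearMap

@[simp] theorem Phi_tmul (hcan : Function.Bijective (can r hB)) (m : M) (a h : O) :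
    Phi M hcan ((m ⊗ₜ a) ⊗ₜ h) = P m (tau hcan (HopfAlgebra.antipode k a * h)) := rfl

/-- The inverse of `α`. -/
noncomputable def gam (hcan : Function.Bijective (can r hB)) (ρ : M →ₗ[k] M ⊗[k] O) :
    M ⊗[k] O →ₗ[k] D ⊗[B] M := Phi M hcan ∘ₗ ρ.rTensor O

theorem gam_tmul (hcan : Function.Bijective (can r hB)) (m : M) (h : O) :
    gam hcan ρ (m ⊗ₜ h) = Phi M hcan (ρ m ⊗ₜ h) := rfl

theorem alpha_Phi (hcan : Function.Bijective (can r hB)) (x : M ⊗[k] O) (h : O) :
    alpha hB ρ hρ (Phi M hcan (x ⊗ₜ h)) =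
      (th1 k h).lTensor M (TensorProduct.assoc k M O O (ρ.rTensor O x)) := by
  induction x with
  | zero => simp
  | add x y hx hy => rw [add_tmul, map_add, map_add, hx, hy, map_add, map_add, map_add]
  | tmul m a =>
    rw [Phi_tmul, alpha_P, can_tau, LinearMap.rTensor_tmul]
    generalize ρ m = z
    induction z with
    | zero => simp
    | add x y hx hy => rw [map_add, hx, hy, add_tmul, map_add, map_add]
    | tmul m' b =>
      rw [act_tmul, one_smul, TensorProduct.assoc_tmul, LinearMap.lTensor_tmul, th1_tmul]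
      congr 1
      ring

theorem alpha_gam (hcan : Function.Bijective (can r hB)) (hco : IsComod ρ) (x : M ⊗[k] O) :
    alpha hB ρ hρ (gam hcan ρ x) = x := by
  induction x with
  | zero => simp
  | add x y hx hy => rw [map_add, map_add, hx, hy]
  | tmul m h => rw [gam_tmul, alpha_Phi, hco.sum _ h (th1_comul h)]

/-- `d' ⊗ c ↦ (1 ⊗ d') * τ (S c)` -/
noncomputable def Om (hcan : Function.Bijective (can r hB)) : D ⊗[k] O →ₗ[k] D ⊗[B] D :=
  TensorProduct.lift ((LinearMap.mul k (D ⊗[B] D)).compl₁₂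
    ((Algebra.TensorProduct.includeRight : D →ₐ[B] D ⊗[B] D).toLinearMap.restrictScalars k)
    ((tau hcan).toLinearMap ∘ₗ HopfAlgebra.antipode k))

@[simp] theorem Om_tmul (hcan : Function.Bijective (can r hB)) (d : D) (c : O) :
    Om hcan (d ⊗ₜ c) = (1 ⊗ₜ d) * tau hcan (HopfAlgebra.antipode k c) := rfl

theorem can_Om (hcan : Function.Bijective (can r hB)) (y : D ⊗[k] O) :
    can r hB (Om hcan y) =
      (th1 k (1 : O)).lTensor D (TensorProduct.assoc k D O O (r.toLinearMap.rTensor O y)) := by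
  induction y with
  | zero => simp
  | add x y hx hy => rw [map_add, map_add, hx, hy, map_add, map_add, map_add]
  | tmul d c =>
    rw [Om_tmul, map_mul, can_tau, can_tmul, ← Algebra.TensorProduct.one_def, one_mul, LinearMap.rTensor_tmul,
      AlgHom.toLinearMap_apply]
    generalize r d = z
    induction z with
    | zero => simp
    | add x y hx hy => rw [add_mul, hx, hy, add_tmul, map_add, map_add]
    | tmul d' b =>
      rw [Algebra.TensorProduct.tmul_mul_tmul, mul_one, TensorProduct.assoc_tmul, LinearMap.lTensor_tmul, th1_tmul,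
        one_mul]

theorem Om_r (hcan : Function.Bijective (can r hB)) (hcoD : IsComod r.toLinearMap) (d : D) :
    Om hcan (r d) = d ⊗ₜ 1 := by
  apply hcan.1
  rw [can_Om, can_tmul, map_one, mul_one]
  exact hcoD.sum _ 1 (th1_comul 1) d

theorem Phi_act (hcan : Function.Bijective (can r hB)) (y : D ⊗[k] O) (m : M) (a h : O) :
    Phi M hcan (act k O D M y (m ⊗ₜ a) ⊗ₜ h) = P m (Om hcan y * tau hcan (HopfAlgebra.antipode k a * h)) := by
  induction y with
  | zero => simp
  | add x y hx hy => rw [map_add, LinearMap.add_apply, add_tmul, map_add, hx, hy, map_add, add_mul, map_add]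
  | tmul d c =>
    rw [act_tmul, Phi_tmul, P_smul', Om_tmul, mul_assoc, ← map_mul, ← mul_assoc, ← HopfAlgebra.antipode_mul_distrib]

theorem gam_smul (hcan : Function.Bijective (can r hB)) (hcoD : IsComod r.toLinearMap)
    (hρ : ∀ (d : D) m, ρ (d • m) = act k O D M (r d) (ρ m)) (d : D) (x : M ⊗[k] O) :
    gam hcan ρ (d • x) = d • gam hcan ρ x := by
  induction x with
  | zero => simp
  | add x y hx hy => rw [smul_add, map_add, hx, hy, map_add, smul_add]
  | tmul m h =>
    rw [TensorProduct.smul_tmul', gam_tmul, gam_tmul, hρ]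
    generalize ρ m = z
    induction z with
    | zero => simp
    | add x y hx hy => rw [map_add, add_tmul, map_add, hx, hy, add_tmul, map_add, smul_add]
    | tmul m' a =>
      rw [Phi_act, Om_r hcan hcoD, Phi_tmul, ← map_smul]
      congr 1
      generalize tau hcan (HopfAlgebra.antipode k a * h) = t
      induction t with
      | zero => simp
      | add x y hx hy => rw [mul_add, hx, hy, smul_add]
      | tmul p q => rw [Algebra.TensorProduct.tmul_mul_tmul, one_mul, TensorProduct.smul_tmul', smul_eq_mul]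

theorem gam_rho (hcan : Function.Bijective (can r hB)) (hco : IsComod ρ) (m : M) :
    gam hcan ρ (ρ m) = (1 : D) ⊗ₜ[B] m := by
  have h1 : gam hcan ρ (ρ m) = TensorProduct.lift (Pl (k := k) (B := B) (D := D) (M := M))
      (((tau hcan).toLinearMap.lTensor M) ((th2 k O).lTensor M
        (TensorProduct.assoc k M O O (ρ.rTensor O (ρ m))))) := by
    rw [← LinearMap.comp_apply (((tau hcan).toLinearMap.lTensor M)), ← LinearMap.lTensor_comp]
    rfl
  rw [h1, hco.sum _ 1 th2_comul, LinearMap.lTensor_tmul, AlgHom.toLinearMap_apply, map_one, TensorProduct.lift.tmul,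
    Pl_apply, Algebra.TensorProduct.one_def, P_tmul, one_smul]

theorem gam_alpha (hcan : Function.Bijective (can r hB)) (hcoD : IsComod r.toLinearMap) (hco : IsComod ρ)
    (x : D ⊗[B] M) : gam hcan ρ (alpha hB ρ hρ x) = x := by
  induction x with
  | zero => simp
  | add x y hx hy => rw [map_add, map_add, hx, hy]
  | tmul d m => rw [alpha_tmul, gam_smul hcan hcoD hρ, gam_rho hcan hco, TensorProduct.smul_tmul', smul_eq_mul, mul_one]

/-- (G1) -/
theorem alpha_bijective (hcan : Function.Bijective (can r hB)) (hcoD : IsComod r.toLinearMap) (hco : IsComod ρ) :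
    Function.Bijective (alpha hB ρ hρ) :=
  ⟨(Function.LeftInverse.injective (gam_alpha hcan hcoD hco)),
    Function.RightInverse.surjective (alpha_gam hcan hco)⟩

/-- The coinvariants as a `B`-submodule. -/
def co (hB : ∀ b : B, r (algebraMap B D b) = algebraMap B D b ⊗ₜ 1) (ρ : M →ₗ[k] M ⊗[k] O)
    (hρ : ∀ (d : D) m, ρ (d • m) = act k O D M (r d) (ρ m)) : Submodule B M where
  carrier := {m | ρ m = m ⊗ₜ 1}
  add_mem' {m m'} h h' := by
    simp only [Set.mem_ofPred_eq] at h h' ⊢
    rw [map_add, h, h', add_tmul]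
  zero_mem' := by simp
  smul_mem' b m h := by
    simp only [Set.mem_ofPred_eq] at h ⊢
    have h1 := (rhoB hB ρ hρ).map_smul b m
    change ρ (b • m) = b • ρ m at h1
    rw [h1, h, TensorProduct.smul_tmul']

theorem mem_co {m : M} : m ∈ co hB ρ hρ ↔ ρ m = m ⊗ₜ 1 := Iff.rfl

/-- `m ↦ m ⊗ 1` -/
noncomputable def inOne (k O B M : Type*) [CommRing k] [CommRing O] [Algebra k O] [CommRing B] [Algebra k B]
    [AddCommGroup M] [Module k M] [Module B M] [IsScalarTower k B M] : M →ₗ[B] M ⊗[k] O where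
  toFun m := m ⊗ₜ 1
  map_add' _ _ := add_tmul _ _ _
  map_smul' _ _ := rfl

/-- `m ↦ ρ m - m ⊗ 1` -/
noncomputable def delta (hB : ∀ b : B, r (algebraMap B D b) = algebraMap B D b ⊗ₜ 1) (ρ : M →ₗ[k] M ⊗[k] O)
    (hρ : ∀ (d : D) m, ρ (d • m) = act k O D M (r d) (ρ m)) : M →ₗ[B] M ⊗[k] O :=
  rhoB hB ρ hρ - inOne k O B M

theorem delta_apply (m : M) : delta hB ρ hρ m = ρ m - m ⊗ₜ 1 := rfl

theorem exact_delta : Function.Exact (co hB ρ hρ).subtype (delta hB ρ hρ) := by
  intro m
  rw [delta_apply, sub_eq_zero, ← mem_co (hB := hB) (ρ := ρ) (hρ := hρ)]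
  exact ⟨fun h => ⟨⟨m, h⟩, rfl⟩, by rintro ⟨x, rfl⟩; exact x.2⟩

/-- `d ⊗ (m ⊗ h) ↦ α (d ⊗ m) ⊗ h` -/
noncomputable def W (hB : ∀ b : B, r (algebraMap B D b) = algebraMap B D b ⊗ₜ 1) (ρ : M →ₗ[k] M ⊗[k] O)
    (hρ : ∀ (d : D) m, ρ (d • m) = act k O D M (r d) (ρ m)) :
    D ⊗[B] (M ⊗[k] O) →ₗ[k] (M ⊗[k] O) ⊗[k] O :=
  (((alpha hB ρ hρ).restrictScalars k).rTensor O) ∘ₗ
    ((AlgebraTensorModule.assoc k B D D M O).symm.toLinearMap.restrictScalars k)

@[simp] theorem W_tmul (d : D) (m : M) (h : O) : W hB ρ hρ (d ⊗ₜ (m ⊗ₜ h)) = (d • ρ m) ⊗ₜ h := rfl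

theorem W_injective (hα : Function.Bijective (alpha hB ρ hρ)) : Function.Injective (W hB ρ hρ) := by
  have h1 : Function.Injective (((alpha hB ρ hρ).restrictScalars k).rTensor O) := by
    have h2 : (((alpha hB ρ hρ).restrictScalars k).rTensor O) =
        ((LinearEquiv.ofBijective ((alpha hB ρ hρ).restrictScalars k) hα).rTensor O).toLinearMap :=
      TensorProduct.ext' fun _ _ => rfl
    rw [h2]
    exact LinearEquiv.injective _
  exact h1.comp (AlgebraTensorModule.assoc k B D D M O).symm.injective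

theorem W_rho (hco : IsComod ρ) (z : D ⊗[B] M) :
    W hB ρ hρ ((rhoB hB ρ hρ).lTensor D z) = (TensorProduct.assoc k M O O).symm
      ((Coalgebra.comul (R := k) (A := O)).lTensor M (alpha hB ρ hρ z)) := by
  induction z with
  | zero => simp
  | add x y hx hy => simp only [map_add, hx, hy]
  | tmul d m =>
    have h1 : ∀ x : M ⊗[k] O, W hB ρ hρ (d ⊗ₜ x) = (LinearMap.lsmul D M d |>.restrictScalars k |>.rTensor O).rTensor O
        (ρ.rTensor O x) := by
      intro x
      induction x with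
      | zero => simp
      | add x y hx hy => rw [tmul_add, map_add, map_add, map_add, hx, hy]
      | tmul m' h =>
        rw [W_tmul, LinearMap.rTensor_tmul, LinearMap.rTensor_tmul]
        congr 1
    have h2 : ∀ y : M ⊗[k] O, (LinearMap.lsmul D M d |>.restrictScalars k |>.rTensor O).rTensor O
        ((TensorProduct.assoc k M O O).symm ((Coalgebra.comul (R := k) (A := O)).lTensor M y)) =
        (TensorProduct.assoc k M O O).symm ((Coalgebra.comul (R := k) (A := O)).lTensor M (d • y)) := by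
      intro y
      induction y with
      | zero => simp
      | add x y hx hy => simp only [map_add, hx, hy, smul_add]
      | tmul m' h =>
        rw [TensorProduct.smul_tmul', LinearMap.lTensor_tmul, LinearMap.lTensor_tmul]
        generalize (Coalgebra.comul (R := k) (A := O)) h = w
        induction w with
        | zero => simp
        | add x y hx hy => simp only [tmul_add, map_add, hx, hy]
        | tmul a b => rfl
    rw [LinearMap.lTensor_tmul, alpha_tmul, ← h2, ← hco.coassoc, LinearEquiv.symm_apply_apply]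
    exact h1 (ρ m)

theorem W_inOne (z : D ⊗[B] M) :
    W hB ρ hρ ((inOne k O B M).lTensor D z) = (alpha hB ρ hρ z) ⊗ₜ 1 := by
  induction z with
  | zero => simp
  | add x y hx hy => rw [map_add, map_add, hx, hy, map_add, add_tmul]
  | tmul d m => rfl

/-- `d ⊗ m ↦ d • m` on `D ⊗[B] M^co` -/
noncomputable def mu (hB : ∀ b : B, r (algebraMap B D b) = algebraMap B D b ⊗ₜ 1) (ρ : M →ₗ[k] M ⊗[k] O)
    (hρ : ∀ (d : D) m, ρ (d • m) = act k O D M (r d) (ρ m)) : D ⊗[B] (co hB ρ hρ) →ₗ[D] M :=
  (co hB ρ hρ).subtype.liftBaseChange D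

@[simp] theorem mu_tmul (d : D) (m : co hB ρ hρ) : mu hB ρ hρ (d ⊗ₜ m) = d • (m : M) := rfl

theorem alpha_co (z : D ⊗[B] (co hB ρ hρ)) :
    alpha hB ρ hρ ((co hB ρ hρ).subtype.lTensor D z) = mu hB ρ hρ z ⊗ₜ 1 := by
  induction z with
  | zero => simp
  | add x y hx hy => rw [map_add, map_add, hx, hy, map_add, add_tmul]
  | tmul d m =>
    rw [LinearMap.lTensor_tmul, alpha_tmul, mu_tmul, Submodule.subtype_apply, mem_co.1 m.2, TensorProduct.smul_tmul']

/-- (G2) -/
theorem mu_bijective (hcan : Function.Bijective (can r hB)) (hcoD : IsComod r.toLinearMap) (hco : IsComod ρ)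
    [Module.Flat B D] : Function.Bijective (mu hB ρ hρ) := by
  have hα := alpha_bijective (hρ := hρ) hcan hcoD hco
  constructor
  · rw [injective_iff_map_eq_zero]
    intro z hz
    have h1 := alpha_co (hB := hB) (ρ := ρ) (hρ := hρ) z
    rw [hz, zero_tmul] at h1
    have h2 : (co hB ρ hρ).subtype.lTensor D z = 0 := hα.1 (by rw [h1, map_zero])
    exact (Module.Flat.lTensor_preserves_injective_linearMap (M := D) (co hB ρ hρ).subtype
      (Submodule.injective_subtype _)) (by rw [h2, map_zero])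
  · intro m
    obtain ⟨z, hz⟩ := hα.2 (m ⊗ₜ[k] (1 : O))
    have h1 : (delta hB ρ hρ).lTensor D z = 0 := by
      apply W_injective hα
      rw [map_zero, delta, LinearMap.lTensor_sub, LinearMap.sub_apply, map_sub, W_rho hco, W_inOne, hz,
        LinearMap.lTensor_tmul, Bialgebra.comul_one, Algebra.TensorProduct.one_def]
      exact sub_self _
    have h2 := (Module.Flat.lTensor_exact D (exact_delta (hB := hB) (ρ := ρ) (hρ := hρ)) z).1 h1
    obtain ⟨z', rfl⟩ := h2
    refine ⟨z', tmul_one_injective (k := k) (O := O) ?_⟩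
    rw [← alpha_co, hz]

/-- (G3) -/
theorem finite_co (hcan : Function.Bijective (can r hB)) (hcoD : IsComod r.toLinearMap) (hco : IsComod ρ)
    [Module.FaithfullyFlat B D] [Module.Finite D M] : Module.Finite B (co hB ρ hρ) := by
  have : Module.Finite D (D ⊗[B] (co hB ρ hρ)) :=
    Module.Finite.equiv (LinearEquiv.ofBijective (mu hB ρ hρ) (mu_bijective hcan hcoD hco)).symm
  exact Module.Finite.of_finite_tensorProduct_of_faithfullyFlat D

theorem span_co (hcan : Function.Bijective (can r hB)) (hcoD : IsComod r.toLinearMap) (hco : IsComod ρ)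
    [Module.Flat B D] : Submodule.span D ((co hB ρ hρ : Submodule B M) : Set M) = ⊤ := by
  rw [eq_top_iff]
  intro m _
  obtain ⟨z, rfl⟩ := (mu_bijective (hB := hB) (ρ := ρ) (hρ := hρ) hcan hcoD hco).2 m
  induction z with
  | zero => simp
  | add x y hx hy => rw [map_add]; exact add_mem (hx trivial) (hy trivial)
  | tmul d m => exact Submodule.smul_mem _ _ (Submodule.subset_span m.2)

end Galois

end Groth.Agent.ResProp.EF.K761
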