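import Groth.Agent.ResProp.EF.K83.FinDatum
import Groth.Agent.ResProp.EF.K761.Galois

/-!
# G6a, node T2: Hopf-Galois descent for `GalLoc`

For `G : GalLoc c s` and an `(D_s, A)`-Hopf module `N`:
* `rho_algebraMap`: `B` consists of coinvariants;
* `alpha_bij` (G1), `mu_bij` (G2), `finite_coinv` (G3), `span_coinv`.
-/

set_option autoImplicit false
set_option linter.unusedSectionVars false

universe u

open TensorProduct Groth.Agent.ResProp.EF.K83

noncomputable section

namespace Groth.Agent.ResProp.EF.K761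

variable {R : Type u} [CommRing R] {A : Type u} [CommRing A] [HopfAlgebra R A]

theorem isComod_of_coAlg {D : Type u} [CommRing D] [Algebra R D] (c : CoAlg R A D) :
    IsComod c.ρ.toLinearMap := ⟨c.coassoc, c.counit⟩

theorem isComod_of_comod {N : Type u} [AddCommGroup N] [Module R N] (co : HopfRep.Comod R A N) :
    IsComod co.coact :=
  ⟨fun m => LinearMap.congr_fun co.coassoc m, fun m => LinearMap.congr_fun co.counit_comp m⟩

section

variable {D : Type u} [CommRing D] [Algebra R D] {c : CoAlg R A D} {s : D} (G : GalLoc c s)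

theorem rho_algebraMap (b : G.B) : G.cs.ρ (algebraMap G.B G.Ds b) = algebraMap G.B G.Ds b ⊗ₜ 1 := by
  have h1 := G.can_tmul 1 (algebraMap G.B G.Ds b)
  have h2 := G.can_tmul (algebraMap G.B G.Ds b) 1
  rw [map_one, mul_one] at h2
  rw [← Algebra.TensorProduct.one_def, one_mul] at h1
  rw [← h1, ← h2, Algebra.algebraMap_eq_smul_one, TensorProduct.tmul_smul, TensorProduct.smul_tmul']

theorem can_eq (x : G.Ds ⊗[G.B] G.Ds) : can G.cs.ρ (rho_algebraMap G) x = G.can x := by
  induction x with
  | zero => simp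
  | add x y hx hy => rw [map_add, map_add, hx, hy]
  | tmul a b => rw [can_tmul, G.can_tmul]

theorem can_bij : Function.Bijective (can G.cs.ρ (rho_algebraMap G)) := by
  have h : ⇑(can G.cs.ρ (rho_algebraMap G)) = ⇑G.can := funext (can_eq G)
  rw [h]
  exact G.can_bij

variable (N : Type u) [AddCommGroup N] [Module R N] [Module G.Ds N] [IsScalarTower R G.Ds N]
  [Module G.B N] [IsScalarTower G.B G.Ds N] [IsScalarTower R G.B N]
  (co : HopfRep.Comod R A N) (hN : IsHopfMod G.cs N co)

/-- The coinvariants as a `B`-submodule. -/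
def coinv : Submodule G.B N := K761.co (rho_algebraMap G) co.coact hN.smul

theorem mem_coinv {n : N} : n ∈ coinv G N co hN ↔ co.coact n = n ⊗ₜ 1 := Iff.rfl

/-- `D_s ⊗[B] N → N ⊗ A`, `d ⊗ n ↦ d • ρ n` -/
def alphaG : G.Ds ⊗[G.B] N →ₗ[G.Ds] N ⊗[R] A := alpha (rho_algebraMap G) co.coact hN.smul

theorem alphaG_tmul (d : G.Ds) (n : N) : alphaG G N co hN (d ⊗ₜ n) = d • co.coact n := rfl

/-- (G1) -/
theorem alphaG_bijective : Function.Bijective (alphaG G N co hN) :=
  alpha_bijective (can_bij G) (isComod_of_coAlg G.cs) (isComod_of_comod co)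

/-- `D_s ⊗[B] N^co → N`, `d ⊗ n ↦ d • n` -/
def muG : G.Ds ⊗[G.B] (coinv G N co hN) →ₗ[G.Ds] N := mu (rho_algebraMap G) co.coact hN.smul

theorem muG_tmul (d : G.Ds) (n : coinv G N co hN) : muG G N co hN (d ⊗ₜ n) = d • (n : N) := rfl

/-- (G2) -/
theorem muG_bijective : Function.Bijective (muG G N co hN) :=
  mu_bijective (can_bij G) (isComod_of_coAlg G.cs) (isComod_of_comod co)

/-- (G3) -/
theorem finite_coinv [Module.Finite G.Ds N] : Module.Finite G.B (coinv G N co hN) :=
  finite_co (can_bij G) (isComod_of_coAlg G.cs) (isComod_of_comod co)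

theorem span_coinv : Submodule.span G.Ds ((coinv G N co hN : Submodule G.B N) : Set N) = ⊤ :=
  span_co (can_bij G) (isComod_of_coAlg G.cs) (isComod_of_comod co)

end

end Groth.Agent.ResProp.EF.K761
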