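import Mathlib.LinearAlgebra.Matrix.NonsingularInverse
import Mathlib.LinearAlgebra.Matrix.Determinant.Basic
import Mathlib.RingTheory.Ideal.Operations

/-!
# Maximal minors and right inverses (S16912, block G1, node P1)

* `exists_mul_eq_one_iff`: `M : Matrix (Fin r) ι T` (or any finite row index) has a right inverse iff its maximal minors
  `det (M.submatrix id I)`, `I : ρ → ι`, generate the unit ideal.
* `exists_mul_eq_one_pair_iff`: the same for a pair of matrices and the products of the minors.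
-/

set_option autoImplicit false

namespace Groth.Agent.ResProp.EF.K761

open Matrix

section

variable {T : Type*} [CommRing T] {ρ : Type*} [Fintype ρ] [DecidableEq ρ] {ι : Type*} [Fintype ι]

/-- Cauchy - Binet, unsorted form. -/
theorem det_mul_eq_sum (M : Matrix ρ ι T) (S : Matrix ι ρ T) :
    (M * S).det = ∑ I : ρ → ι, (∏ b, S (I b) b) * (M.submatrix id I).det := by
  classical
  rw [← det_transpose]
  have h1 : (M * S)ᵀ = fun b => ∑ k, S k b • Mᵀ k := by
    funext b a
    simp [Matrix.mul_apply, Finset.sum_apply, mul_comm]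
  rw [h1]
  have h2 : (Matrix.detRowAlternating (n := ρ) (R := T)) (fun b => ∑ k, S k b • Mᵀ k) =
      ∑ I : ρ → ι, (Matrix.detRowAlternating (n := ρ) (R := T)) (fun b => S (I b) b • Mᵀ (I b)) := by
    exact MultilinearMap.map_sum (Matrix.detRowAlternating (n := ρ) (R := T)).toMultilinearMap
      (fun b k => S k b • Mᵀ k)
  change (Matrix.detRowAlternating (n := ρ) (R := T)) _ = _
  rw [h2]
  refine Finset.sum_congr rfl fun I _ => ?_
  have h3 : (Matrix.detRowAlternating (n := ρ) (R := T)) (fun b => S (I b) b • Mᵀ (I b)) =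
      (∏ b, S (I b) b) • (Matrix.detRowAlternating (n := ρ) (R := T)) (fun b => Mᵀ (I b)) :=
    MultilinearMap.map_smul_univ (Matrix.detRowAlternating (n := ρ) (R := T)).toMultilinearMap _ _
  rw [h3, smul_eq_mul]
  congr 1
  change Matrix.det (fun b => Mᵀ (I b)) = _
  rw [← det_transpose]
  rfl

theorem span_minors_eq_top (M : Matrix ρ ι T) (S : Matrix ι ρ T) (h : M * S = 1) :
    Ideal.span (Set.range fun I : ρ → ι => (M.submatrix id I).det) = ⊤ := by
  rw [Ideal.eq_top_iff_one, ← det_one (n := ρ) (R := T), ← h, det_mul_eq_sum]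
  exact Submodule.sum_mem _ fun I _ => Ideal.mul_mem_left _ _ (Ideal.subset_span ⟨I, rfl⟩)

theorem exists_mul_eq_one (M : Matrix ρ ι T)
    (h : Ideal.span (Set.range fun I : ρ → ι => (M.submatrix id I).det) = ⊤) :
    ∃ S : Matrix ι ρ T, M * S = 1 := by
  classical
  rw [Ideal.eq_top_iff_one, Ideal.mem_span_range_iff_exists_fun] at h
  obtain ⟨a, ha⟩ := h
  refine ⟨∑ I : ρ → ι, a I • ((Matrix.of fun k b => if I b = k then (1 : T) else 0) * (M.submatrix id I).adjugate), ?_⟩
  rw [Matrix.mul_sum]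
  have h1 : ∀ I : ρ → ι, M * (a I • ((Matrix.of fun k b => if I b = k then (1 : T) else 0) *
      (M.submatrix id I).adjugate)) = (a I * (M.submatrix id I).det) • (1 : Matrix ρ ρ T) := by
    intro I
    rw [Matrix.mul_smul, ← Matrix.mul_assoc]
    have h2 : M * (Matrix.of fun k b => if I b = k then (1 : T) else 0) = M.submatrix id I := by
      ext b b'
      simp [Matrix.mul_apply]
    rw [h2, Matrix.mul_adjugate, smul_smul]
  rw [Finset.sum_congr rfl fun I _ => h1 I, ← Finset.sum_smul, ha, one_smul]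

/-- **P1** -/
theorem exists_mul_eq_one_iff (M : Matrix ρ ι T) :
    (∃ S : Matrix ι ρ T, M * S = 1) ↔
      Ideal.span (Set.range fun I : ρ → ι => (M.submatrix id I).det) = ⊤ :=
  ⟨fun ⟨S, h⟩ => span_minors_eq_top M S h, exists_mul_eq_one M⟩

end

section Pair

variable {T : Type*} [CommRing T]

theorem span_range_mul_eq_top_iff {α β : Type*} (f : α → T) (g : β → T) :
    Ideal.span (Set.range fun x : α × β => f x.1 * g x.2) = ⊤ ↔
      Ideal.span (Set.range f) = ⊤ ∧ Ideal.span (Set.range g) = ⊤ := by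
  have h1 : Ideal.span (Set.range fun x : α × β => f x.1 * g x.2) =
      Ideal.span (Set.range f) * Ideal.span (Set.range g) := by
    rw [Ideal.span_mul_span']
    congr 1
    ext z
    constructor
    · rintro ⟨⟨x, y⟩, rfl⟩
      exact Set.mul_mem_mul ⟨x, rfl⟩ ⟨y, rfl⟩
    · rintro ⟨_, ⟨x, rfl⟩, _, ⟨y, rfl⟩, rfl⟩
      exact ⟨(x, y), rfl⟩
  rw [h1]
  constructor
  · intro h
    exact ⟨eq_top_iff.2 (h.symm.le.trans Ideal.mul_le_left), eq_top_iff.2 (h.symm.le.trans Ideal.mul_le_right)⟩
  · rintro ⟨h, h'⟩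
    rw [h, h', Ideal.mul_top]

variable {ρ : Type*} [Fintype ρ] [DecidableEq ρ] {ι : Type*} [Fintype ι]
  {ρ' : Type*} [Fintype ρ'] [DecidableEq ρ'] {ι' : Type*} [Fintype ι']

/-- **P1**, pair version: the products `det (M_I) * det (Mm_J)` generate the unit ideal iff both matrices are right
invertible. -/
theorem exists_mul_eq_one_pair_iff (M : Matrix ρ ι T) (Mm : Matrix ρ' ι' T) :
    ((∃ S : Matrix ι ρ T, M * S = 1) ∧ (∃ S : Matrix ι' ρ' T, Mm * S = 1)) ↔
      Ideal.span (Set.range fun x : (ρ → ι) × (ρ' → ι') =>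
        (M.submatrix id x.1).det * (Mm.submatrix id x.2).det) = ⊤ := by
  rw [span_range_mul_eq_top_iff (fun I : ρ → ι => (M.submatrix id I).det)
    (fun J : ρ' → ι' => (Mm.submatrix id J).det), exists_mul_eq_one_iff, exists_mul_eq_one_iff]

/-- If one product of minors is a unit, both matrices are right invertible. -/
theorem exists_mul_eq_one_of_isUnit (M : Matrix ρ ι T) (I : ρ → ι) (h : IsUnit (M.submatrix id I).det) :
    ∃ S : Matrix ι ρ T, M * S = 1 :=
  exists_mul_eq_one M (Ideal.eq_top_of_isUnit_mem _ (Ideal.subset_span ⟨I, rfl⟩) h)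

end Pair

end Groth.Agent.ResProp.EF.K761
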