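import Groth.Agent.ResProp.EF.K83.Nodes
import Groth.Agent.ResProp.EF.K761.T2

/-!
# G6a, node T2: `StmtT2` of `K83/Nodes.lean`
-/

set_option autoImplicit false

universe u

open TensorProduct Groth.Agent.ResProp.EF.K83

namespace Groth.Agent.ResProp.EF.K761

theorem stmtT2 : StmtT2.{u} := by
  intro R _ A _ _ _ D _ _ c s g M _ _ _ _ co hM hfin
  letI : Module g.B M := Module.compHom M (algebraMap g.B g.Ds)
  haveI : IsScalarTower g.B g.Ds M := ⟨fun b d m => by
    change (b • d) • m = algebraMap g.B g.Ds b • d • m
    rw [Algebra.smul_def, mul_smul]⟩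
  haveI : IsScalarTower R g.B M := ⟨fun a b m => by
    change algebraMap g.B g.Ds (a • b) • m = a • algebraMap g.B g.Ds b • m
    rw [Algebra.smul_def, map_mul, mul_smul, ← IsScalarTower.algebraMap_apply, algebraMap_smul]⟩
  have hf := finite_coinv g M co hM
  obtain ⟨Z, hZ⟩ := hf.fg_top
  classical
  refine ⟨Z.image Subtype.val, ?_, ?_⟩
  · intro z hz
    obtain ⟨z, _, rfl⟩ := Finset.mem_image.1 hz
    exact z.2
  · intro m hm
    have h1 : (⟨m, hm⟩ : coinv g M co hM) ∈ Submodule.span g.B (Z : Set (coinv g M co hM)) := by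
      rw [hZ]; trivial
    have h2 : ∀ z : coinv g M co hM, z ∈ Submodule.span g.B (Z : Set (coinv g M co hM)) →
        (z : M) ∈ Submodule.span (algebraMap g.B g.Ds).range ((Z.image Subtype.val : Finset M) : Set M) := by
      intro z hz
      induction hz using Submodule.span_induction with
      | mem z hz => exact Submodule.subset_span (Finset.mem_coe.2 (Finset.mem_image_of_mem _ hz))
      | zero => exact Submodule.zero_mem _
      | add x y _ _ hx hy => exact Submodule.add_mem _ hx hy
      | smul b x _ hx =>
        exact Submodule.smul_mem _ (⟨algebraMap g.B g.Ds b, b, rfl⟩ : (algebraMap g.B g.Ds).range) hx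
    exact h2 _ h1

end Groth.Agent.ResProp.EF.K761
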